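import Groth.Agent.SubDescLib.Main
import Groth.Agent.DenseSubLib.Basic
import Groth.Agent.SemiAbLib.Points
import Groth.Agent.ChevThmLib.PtSub
import Groth.Agent.GrpHomLib.FlatImage
import Groth.Agent.AbSchLib.DimFinite
import Groth.Agent.AntiAffLib.Image
import Groth.Agent.AlgSpLib.ReducedSmooth
import Groth.Agent.GrpSchLib.Cartier
import Groth.Agent.BorelLib.NonAffBasic
import Groth.Agent.AlbLib.AVBasic
import Groth.Agent.CubeConsLib.Defect2
import Groth.Prelude

/-!
# Connected subgroups along isogenies
-/

set_option autoImplicit false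
set_option linter.style.haveILetI false
set_option backward.isDefEq.respectTransparency false
set_option maxHeartbeats 1000000

universe u

open CategoryTheory CategoryTheory.Limits MonoidalCategory CartesianMonoidalCategory AlgebraicGeometry
open scoped MonObj

noncomputable section

attribute [-instance] CategoryTheory.Hom.commGroup

namespace IsogWordLib

open Groth.Agent

variable {K : Type u} [Field K] [IsAlgClosed K] {G H : Over (Spec (CommRingCat.of K))} [GrpObj G] [GrpObj H]
  [LocallyOfFiniteType G.hom] [QuasiCompact G.hom] [LocallyOfFiniteType H.hom] [QuasiCompact H.hom]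
  (f : G ⟶ H) [IsMonHom f] [IsFinite f.left]

/-- An isogeny between smooth connected groups. -/
structure Isog {U U' : Over (Spec (CommRingCat.of K))} [GrpObj U] [GrpObj U'] (p : U ⟶ U') : Prop where
  hom : IsMonHom p
  fin : IsFinite p.left
  surj : Surjective p.left

include f

/-- The image of a smooth connected subgroup under an isogeny. -/
theorem exists_image {U : Over (Spec (CommRingCat.of K))} [GrpObj U] (i : U ⟶ G) [IsMonHom i]
    [IsClosedImmersion i.left] [Smooth U.hom] [ConnectedSpace U.left] :
    ∃ (U' : Over (Spec (CommRingCat.of K))) (_ : GrpObj U') (i' : U' ⟶ H) (p : U ⟶ U'),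
      IsMonHom i' ∧ IsClosedImmersion i'.left ∧ Smooth U'.hom ∧ ConnectedSpace U'.left ∧ Isog p := by
  haveI : IsSeparated H.hom := GrpField.isSeparated_grp (G := H)
  haveI : QuasiCompact U.hom := by rw [← Over.w i]; infer_instance
  haveI : Flat U.hom := GrpField.flat_field _
  haveI : IsFinite (i ≫ f).left := by rw [Over.comp_left]; infer_instance
  obtain ⟨C, _, p, j, hp, hj, hpj, hpf, hps, hpp, hjc⟩ := GrpHom.exists_fppf_image (i ≫ f) (GrpField.flat_field _)
  haveI := hp; haveI := hj; haveI := hpf; haveI := hps; haveI := hpp; haveI := hjc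
  haveI : LocallyOfFiniteType C.hom := by rw [← Over.w j]; infer_instance
  haveI : IsReduced U.left := AlgSpLib.isReduced_of_smooth U.hom
  haveI : IsReduced C.left := AlgSpLib.isReduced_of_flat_surjective p.left
  haveI : Smooth C.hom := GrpSchLib.smooth_of_isAlgClosed_of_isReduced C
  haveI : ConnectedSpace C.left := p.left.surjective.connectedSpace p.left.continuous
  haveI : IsFinite p.left := by
    haveI : IsFinite (p.left ≫ j.left) := by rw [← Over.comp_left, hpj]; infer_instance
    exact IsFinite.of_comp p.left j.left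
  exact ⟨C, inferInstance, j, p, hj, hjc, inferInstance, inferInstance, ⟨hp, inferInstance, hps⟩⟩

variable [Surjective f.left]

/-- The connected preimage of a smooth connected subgroup under an isogeny. -/
theorem exists_preimage {U' : Over (Spec (CommRingCat.of K))} [GrpObj U'] (i' : U' ⟶ H) [IsMonHom i']
    [IsClosedImmersion i'.left] [Smooth U'.hom] [ConnectedSpace U'.left] :
    ∃ (U : Over (Spec (CommRingCat.of K))) (_ : GrpObj U) (i : U ⟶ G) (p : U ⟶ U'),
      IsMonHom i ∧ IsClosedImmersion i.left ∧ Smooth U.hom ∧ ConnectedSpace U.left ∧ Isog p := by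
  haveI : IsSeparated H.hom := GrpField.isSeparated_grp (G := H)
  haveI : IsSeparated G.hom := GrpField.isSeparated_grp (G := G)
  haveI : QuasiCompact U'.hom := by rw [← Over.w i']; infer_instance
  let P : Over (Spec (CommRingCat.of K)) := pullback f i'
  let a : P ⟶ G := pullback.fst f i'
  let b : P ⟶ U' := pullback.snd f i'
  have hsq := (IsPullback.of_hasPullback f i').map (Over.forget _)
  haveI : IsClosedImmersion a.left := MorphismProperty.of_isPullback (P := @IsClosedImmersion) hsq.flip ‹_›
  haveI : IsFinite b.left := MorphismProperty.of_isPullback (P := @IsFinite) hsq ‹_›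
  haveI : Surjective b.left := MorphismProperty.of_isPullback (P := @Surjective) hsq ‹_›
  haveI : Mono i' := Over.mono_of_mono_left i'
  haveI : Mono a := Over.mono_of_mono_left a
  have hlift : ∀ {T : Over (Spec (CommRingCat.of K))} (g : T ⟶ G) (h : T ⟶ U'), g ≫ f = h ≫ i' →
      ∃ l : T ⟶ P, l ≫ a = g := fun g h e => ⟨pullback.lift g h e, pullback.lift_fst _ _ _⟩
  have hab : a ≫ f = b ≫ i' := pullback.condition
  obtain ⟨gP, ha⟩ : ∃ _ : GrpObj P, IsMonHom a :=
    SubDesc.exists_grpObj_of_mono a
      (hlift _ ((fst P P ≫ b) * (snd P P ≫ b)) (by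
        rw [MonObj.mul_comp, MonObj.mul_comp, Category.assoc, Category.assoc, hab, Category.assoc, Category.assoc]))
      (hlift η[G] η[U'] (by rw [IsMonHom.one_hom, IsMonHom.one_hom]))
      (hlift _ b⁻¹ (by rw [GrpObj.inv_comp, GrpObj.inv_comp, hab]))
  haveI := ha
  haveI : IsMonHom b :=
    { one_hom := by rw [← cancel_mono i', Category.assoc, ← hab, ← Category.assoc, IsMonHom.one_hom,
        IsMonHom.one_hom, IsMonHom.one_hom]
      mul_hom := by
        rw [← cancel_mono i', Category.assoc, ← hab, ← Category.assoc, IsMonHom.mul_hom, Category.assoc,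
          Category.assoc, IsMonHom.mul_hom, IsMonHom.mul_hom, tensorHom_comp_tensorHom_assoc, hab,
          tensorHom_comp_tensorHom_assoc] }
  haveI : LocallyOfFiniteType P.hom := by rw [← Over.w a]; infer_instance
  haveI : QuasiCompact P.hom := by rw [← Over.w a]; infer_instance
  obtain ⟨P', _, r, hrm, hrc, hrs, hr⟩ := DenseSubLib.exists_smooth_subgroup
    (⊤ : Subgroup (𝟙_ (Over (Spec (CommRingCat.of K))) ⟶ P))
  haveI := hrm; haveI := hrc; haveI := hrs
  rw [Subgroup.coe_top, SemiAbLib.closure_pt_univ] at hr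
  haveI : Surjective r.left := ⟨Set.range_eq_univ.1 hr⟩
  haveI : QuasiCompact P'.hom := by rw [← Over.w r]; infer_instance
  obtain ⟨U, _, i₀, h0m, h0c, -, h0s, h0q, -, h0conn, -, t, ht⟩ := ChevThmLib.exists_component' P'
  haveI := h0m; haveI := h0c; haveI := h0s; haveI := h0q; haveI := h0conn
  let p : U ⟶ U' := i₀ ≫ r ≫ b
  haveI : IsMonHom p := inferInstanceAs (IsMonHom (i₀ ≫ r ≫ b))
  haveI : IsFinite p.left := by
    show IsFinite (i₀ ≫ r ≫ b).left
    rw [Over.comp_left, Over.comp_left]; infer_instance
  haveI : IsClosedImmersion (i₀ ≫ r ≫ a).left := by rw [Over.comp_left, Over.comp_left]; infer_instance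
  refine ⟨U, inferInstance, i₀ ≫ r ≫ a, p, inferInstance, inferInstance, h0s, h0conn, ⟨inferInstance, inferInstance, ?_⟩⟩
  haveI : GeometricallyIntegral U'.hom := AlbLib.geometricallyIntegral_grp U'
  haveI : IsIntegral U'.left := GeometricallyIntegral.isIntegral_of_subsingleton U'.hom
  -- finitely many translates of the image cover
  let τ : (𝟙_ (Over (Spec (CommRingCat.of K))) ⟶ P') → (U' ⟶ U') := fun c => AVAmpleLib.tR (c ≫ r ≫ b)
  have hcl : ∀ c, IsClosed (Set.range (p ≫ τ c).left) := fun c => by
    haveI : IsIso (τ c).left := inferInstanceAs (IsIso ((Over.forget _).map (AVAmpleLib.tR (c ≫ r ≫ b))))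
    haveI : IsFinite (p ≫ τ c).left := by rw [Over.comp_left]; infer_instance
    exact (p ≫ τ c).left.isClosedMap.isClosed_range
  have hcover : (⋃ c ∈ (t : Set _), Set.range (p ≫ τ c).left) = Set.univ := by
    refine Set.eq_univ_of_univ_subset ((SemiAbLib.closure_pt_univ U').ge.trans
      (closure_minimal ?_ (t.finite_toSet.isClosed_biUnion fun c _ => hcl c)))
    rintro _ ⟨x, -, rfl⟩
    obtain ⟨y, hy⟩ := BorelLib.NA.exists_pt_of_mem_range (r ≫ b) x (Scheme.Hom.surjective (r.left ≫ b.left) _)
    obtain ⟨c, hc, e, he⟩ := ht y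
    refine Set.mem_biUnion hc ⟨e.left (IsLocalRing.closedPoint K), ?_⟩
    have hx : e ≫ p ≫ τ c = x := by
      rw [← hy, ← he, ← Category.assoc, AVAmpleLib.point_tR, MonObj.mul_comp]
      simp only [p, Category.assoc]
    rw [← Scheme.Hom.comp_apply, ← Over.comp_left, hx]
    rfl
  obtain ⟨c, -, hc⟩ : ∃ c ∈ (t : Set _), genericPoint U'.left ∈ Set.range (p ≫ τ c).left := by
    have := hcover.ge (Set.mem_univ (genericPoint U'.left))
    simpa only [Set.mem_iUnion₂, exists_prop] using this
  haveI : Surjective (p ≫ τ c).left := ⟨Set.range_eq_univ.1 (Set.eq_univ_of_univ_subset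
    ((genericPoint_closure (α := U'.left)).ge.trans (closure_minimal (Set.singleton_subset_iff.2 hc) (hcl c))))⟩
  haveI : IsIso (τ c).left := inferInstanceAs (IsIso ((Over.forget _).map (AVAmpleLib.tR (c ≫ r ≫ b))))
  have e : p.left = (p ≫ τ c).left ≫ inv (τ c).left := by
    rw [eq_comm, IsIso.comp_inv_eq]
    rfl
  rw [e]
  infer_instance

end IsogWordLib

end
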