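import Groth.Agent.BorelLib.RedUnip
import Groth.Agent.BorelLib.RedIsog
import Groth.Agent.BorelLib.Image
import Groth.Agent.BorelLib.RedPtsMore
import Groth.Prelude

/-!
# Having no subtorus is invariant under isogenies
-/

set_option autoImplicit false
set_option linter.style.haveILetI false
set_option linter.unusedSectionVars false
set_option backward.isDefEq.respectTransparency false
set_option maxHeartbeats 1000000
set_option synthInstance.maxHeartbeats 400000

universe u

open CategoryTheory CategoryTheory.Limits MonoidalCategory CartesianMonoidalCategory AlgebraicGeometry WithConv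
open scoped MonObj commutatorElement
open CoactBr (sp)

noncomputable section

attribute [-instance] CategoryTheory.Hom.commGroup

namespace IsogWordLib

open Groth.Agent Groth.Agent.BorelLib
attribute [local instance] pTop pTopTensor

section Points

variable {k : Type u} [Field k] [IsAlgClosed k] {A : Type u} [CommRing A] [HopfAlgebra k A] [Algebra.FiniteType k A]
  {G : Over (Spec (CommRingCat.of k))} [GrpObj G] (v : sp k A ≅ G) [IsMonHom v.hom] [IsAffine G.left] [Smooth G.hom]

include v in
theorem forall_uni [ConnectedSpace G.left] (h : Red.HasNoSubtorus k G) : ∀ x : Pt k A, IsUni x := fun x =>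
  uni_of_hasNoSubtorus v (𝟙 G) h x ⟨ptEquiv v x, Category.comp_id (ptEquiv v x)⟩

variable {A' : Type u} [CommRing A'] [HopfAlgebra k A'] [Algebra.FiniteType k A']

include v in
theorem hasNoSubtorus_of_finite_ker [ConnectedSpace G.left] (f : Pt k A →* Pt k A') (hf : IsMor f)
    (hfin : (f.ker : Set (Pt k A)).Finite) (hu : ∀ y : Pt k A', IsUni y) : Red.HasNoSubtorus k G :=
  fun T _ j _ _ hT => by
    haveI := isClosedImmersion_of_torus v j hT
    haveI : LocallyOfFiniteType T.hom := by rw [← Over.w j]; infer_instance
    haveI : Smooth T.hom := (AlbLib.smooth_connected_of_isTorus hT).1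
    have ht := isTor_ptsSub v j hT
    exact ptsSub_eq_bot v (i := j)
      (eq_bot_of_map f hfin ht.conn (eq_bot_of_uni (ht.map hf) fun y _ => hu y))

include v in
theorem hasNoSubtorus_of_forall_uni (hu : ∀ x : Pt k A, IsUni x) : Red.HasNoSubtorus k G :=
  hasNoSubtorus_of_uni v (𝟙 G) fun x _ => hu x

end Points

/-- Having no subtorus is invariant under isogenies. -/
theorem hasNoSubtorus_iff {k : Type u} [Field k] [IsAlgClosed k] (G H : Over (Spec (CommRingCat.of k))) [GrpObj G]
    [GrpObj H] [IsAffine G.left] [IsAffine H.left] [Smooth G.hom] [Smooth H.hom] [ConnectedSpace G.left]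
    [ConnectedSpace H.left] (f : G ⟶ H) [IsMonHom f] [Surjective f.left] [IsFinite f.left] :
    Red.HasNoSubtorus k G ↔ Red.HasNoSubtorus k H := by
  let s : ↥(Spec (CommRingCat.of k)) := IsLocalRing.closedPoint k
  obtain ⟨haff', hsm', hcon'⟩ := geom_facts s H
  haveI := haff'; haveI := hsm'; haveI := hcon'
  obtain ⟨A, _, _, v, hv, hA, -⟩ := exists_setup (Red.geomFibre s H)
  haveI := hv; haveI := hA
  obtain ⟨haff'', hsm'', hcon''⟩ := geom_facts s G
  haveI := haff''; haveI := hsm''; haveI := hcon''
  obtain ⟨A', _, _, w, hw, hA', -⟩ := exists_setup (Red.geomFibre s G)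
  haveI := hw; haveI := hA'
  have hker : Finite ↥(pullback f.left (η[H] : 𝟙_ (Over (Spec (CommRingCat.of k))) ⟶ H).left) := by
    let t := pullback.snd f.left (η[H] : 𝟙_ (Over (Spec (CommRingCat.of k))) ⟶ H).left
    haveI : IsFinite t := MorphismProperty.pullback_snd (P := @IsFinite) _ _ inferInstance
    haveI : Subsingleton ↥(𝟙_ (Over (Spec (CommRingCat.of k)))).left :=
      inferInstanceAs (Subsingleton (PrimeSpectrum k))
    exact Set.finite_univ_iff.1 ((t.finite_preimage_singleton (IsLocalRing.closedPoint k)).subset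
      fun x _ => Subsingleton.elim _ _)
  obtain ⟨φ, hφ, hsur, hfin⟩ := exists_isogeny s v w f hker
  refine ⟨fun h => hasNoSubtorus_of_geom s (hasNoSubtorus_of_forall_uni v fun y => ?_),
    fun h => hasNoSubtorus_of_geom s (hasNoSubtorus_of_finite_ker w φ hφ hfin
      (forall_uni v (hasNoSubtorus_geom s h)))⟩
  obtain ⟨x, rfl⟩ := hsur y
  exact IsUni.map φ hφ (forall_uni w (hasNoSubtorus_geom s h) x)

end IsogWordLib

end
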