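import Groth.Agent.BorelLib.Bridge
import Groth.Agent.MonoQuotLib.Orbit
import Groth.Agent.CubeConsLib.Defect2
import Groth.Agent.AVAmpleLib.ReducedSub
import Groth.Prelude

/-!
# Commutator words and isogenies
-/

set_option autoImplicit false
set_option linter.style.haveILetI false
set_option backward.isDefEq.respectTransparency false

universe u

open CategoryTheory CategoryTheory.Limits MonoidalCategory CartesianMonoidalCategory AlgebraicGeometry
open scoped MonObj commutatorElement

noncomputable section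

attribute [-instance] CategoryTheory.Hom.commGroup

namespace IsogWordLib

variable {k : Type u} [Field k] {G H : Over (Spec (CommRingCat.of k))} [GrpObj G] [GrpObj H]

/-- Generators of the lower central series. -/
def lowSet (X : Over (Spec (CommRingCat.of k))) : ℕ → Set (X ⟶ H)
  | 0 => Set.univ
  | n + 1 => {g | ∃ a ∈ lowSet X n, ∃ b, ⁅a, b⁆ = g}

lemma lowSet_conj (X : Over (Spec (CommRingCat.of k))) : ∀ (n : ℕ) (g a : X ⟶ H),
    a ∈ lowSet X n → g * a * g⁻¹ ∈ lowSet X n
  | 0, _, _, _ => trivial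
  | n + 1, g, a, ha => by
    obtain ⟨x, hx, y, rfl⟩ := ha
    exact ⟨_, lowSet_conj X n g x hx, g * y * g⁻¹, by simp [commutatorElement_def, mul_assoc]⟩

lemma lower_le_lowSet (X : Over (Spec (CommRingCat.of k))) :
    ∀ n, (⊤ : Subgroup (X ⟶ H)).lowerCentralSeries n ≤ Subgroup.closure (lowSet (H := H) X n)
  | 0 => fun g _ => Subgroup.subset_closure trivial
  | n + 1 => by
    rw [Subgroup.lowerCentralSeries_succ]
    refine (Subgroup.commutator_mono (lower_le_lowSet X n) le_rfl).trans ?_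
    set S := Subgroup.closure (lowSet (H := H) X (n + 1)) with hS
    have hnormal : S.Normal := ⟨fun s hs g => by
      rw [hS] at hs ⊢
      induction hs using Subgroup.closure_induction with
      | mem s hs => exact Subgroup.subset_closure (lowSet_conj X (n + 1) g s hs)
      | one => simpa using Subgroup.one_mem _
      | mul a b _ _ ha hb => simpa [mul_assoc] using Subgroup.mul_mem _ ha hb
      | inv a _ ha => simpa [mul_assoc] using Subgroup.inv_mem _ ha⟩
    refine Subgroup.commutator_le.2 fun a ha b _ => ?_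
    induction ha using Subgroup.closure_induction with
    | mem a ha => exact Subgroup.subset_closure ⟨a, ha, b, rfl⟩
    | one => simp
    | mul a a' _ _ h h' =>
      rw [show ⁅a * a', b⁆ = (a * ⁅a', b⁆ * a⁻¹) * ⁅a, b⁆ by simp [commutatorElement_def, mul_assoc]]
      exact S.mul_mem (hnormal.conj_mem _ h' a) h
    | inv a _ h =>
      rw [show ⁅a⁻¹, b⁆ = a⁻¹ * ⁅a, b⁆⁻¹ * (a⁻¹)⁻¹ by simp [commutatorElement_def, mul_assoc]]
      exact hnormal.conj_mem _ (S.inv_mem h) _

/-- Precomposition, on points with values in a group. -/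
def preHom {X Y : Over (Spec (CommRingCat.of k))} (x : X ⟶ Y) (M : Over (Spec (CommRingCat.of k))) [GrpObj M] :
    (Y ⟶ M) →* (X ⟶ M) :=
  MonoidHom.mk' (fun g => x ≫ g) fun _ _ => MonObj.comp_mul x _ _

/-- Postcomposition with a homomorphism. -/
def postHom (X : Over (Spec (CommRingCat.of k))) (f : G ⟶ H) [IsMonHom f] : (X ⟶ G) →* (X ⟶ H) :=
  MonoidHom.mk' (fun g => g ≫ f) fun _ _ => MonObj.mul_comp _ _ f

theorem comp_commutator {X Y : Over (Spec (CommRingCat.of k))} (x : X ⟶ Y) (a b : Y ⟶ H) :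
    x ≫ ⁅a, b⁆ = ⁅x ≫ a, x ≫ b⁆ := map_commutatorElement (preHom x H) a b

theorem commutator_comp {X : Over (Spec (CommRingCat.of k))} (f : G ⟶ H) [IsMonHom f] (a b : X ⟶ G) :
    ⁅a, b⁆ ≫ f = ⁅a ≫ f, b ≫ f⁆ := map_commutatorElement (postHom X f) a b

variable [LocallyOfFiniteType G.hom] [GeometricallyIntegral G.hom]
  (f : G ⟶ H) [IsMonHom f] [Flat f.left] [LocallyOfFinitePresentation f.left] [Surjective f.left]

omit [GrpObj G] in
theorem tensor_facts (P Q : Over (Spec (CommRingCat.of k))) [LocallyOfFiniteType P.hom] [GeometricallyIntegral P.hom]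
    [LocallyOfFiniteType Q.hom] [GeometricallyIntegral Q.hom] :
    LocallyOfFiniteType (P ⊗ Q).hom ∧ GeometricallyIntegral (P ⊗ Q).hom := by
  haveI : LocallyOfFinitePresentation P.hom := LocallyOfFinitePresentation.iff_locallyOfFiniteType.2 inferInstance
  haveI : LocallyOfFinitePresentation Q.hom := LocallyOfFinitePresentation.iff_locallyOfFiniteType.2 inferInstance
  haveI : LocallyOfFiniteType (snd P Q).left := inferInstanceAs (LocallyOfFiniteType (pullback.snd P.hom Q.hom))
  exact ⟨by rw [← Over.w (snd P Q)]; infer_instance, CubeConsLib.geometricallyIntegral_prod P.hom Q.hom⟩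

/-- A pair of compatible universal words. -/
structure Words (S : ∀ (X : Over (Spec (CommRingCat.of k))) (M : Over (Spec (CommRingCat.of k))) [GrpObj M],
    Set (X ⟶ M)) (D : ∀ (X : Over (Spec (CommRingCat.of k))) (M : Over (Spec (CommRingCat.of k))) [GrpObj M],
    Subgroup (X ⟶ M)) where
  P : Over (Spec (CommRingCat.of k))
  Q : Over (Spec (CommRingCat.of k))
  e : P ⟶ Q
  wG : P ⟶ G
  wH : Q ⟶ H
  ε : 𝟙_ (Over (Spec (CommRingCat.of k))) ⟶ P
  flat : Flat e.left
  lfp : LocallyOfFinitePresentation e.left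
  surj : Surjective e.left
  lft : LocallyOfFiniteType P.hom
  gi : GeometricallyIntegral P.hom
  one : ε ≫ wG = 1
  comm : wG ≫ f = e ≫ wH
  mem : wG ∈ D P G
  coverG : ∀ X, ∀ g ∈ S X G, ∃ x : X ⟶ P, x ≫ wG = g
  coverH : ∀ X, ∀ g ∈ S X H, ∃ x : X ⟶ Q, x ≫ wH = g

theorem exists_derived : ∀ n, Nonempty (Words f (fun X M _ => Groth.Agent.BorelLib.wordSet (H := M) X n)
    (fun X M _ => derivedSeries (X ⟶ M) n))
  | 0 => ⟨⟨G, H, f, 𝟙 G, 𝟙 H, η[G], inferInstance, inferInstance, inferInstance, inferInstance, inferInstance,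
      Category.comp_id _, by simp, trivial, fun _ g _ => ⟨g, Category.comp_id g⟩, fun _ g _ => ⟨g, Category.comp_id g⟩⟩⟩
  | n + 1 => by
    obtain ⟨W⟩ := exists_derived n
    haveI := W.flat; haveI := W.lfp; haveI := W.surj; haveI := W.lft; haveI := W.gi
    obtain ⟨h1, h2, h3⟩ := Groth.Agent.MonoQuot.fppf_tensor W.e W.e
    obtain ⟨h4, h5⟩ := tensor_facts W.P W.P
    refine ⟨⟨W.P ⊗ W.P, W.Q ⊗ W.Q, W.e ⊗ₘ W.e, ⁅fst W.P W.P ≫ W.wG, snd W.P W.P ≫ W.wG⁆,
      ⁅fst W.Q W.Q ≫ W.wH, snd W.Q W.Q ≫ W.wH⁆, lift W.ε W.ε, h1, h2, h3, h4, h5, ?_, ?_, ?_, ?_, ?_⟩⟩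
    · rw [comp_commutator, lift_fst_assoc, lift_snd_assoc, W.one, commutatorElement_self]
    · rw [commutator_comp, comp_commutator, Category.assoc, Category.assoc, W.comm, tensorHom_fst_assoc,
        tensorHom_snd_assoc]
    · show ⁅fst W.P W.P ≫ W.wG, snd W.P W.P ≫ W.wG⁆ ∈ derivedSeries _ (n + 1)
      rw [derivedSeries_succ]
      exact Subgroup.commutator_mem_commutator (map_derivedSeries_le_derivedSeries (preHom _ G) n ⟨_, W.mem, rfl⟩)
        (map_derivedSeries_le_derivedSeries (preHom _ G) n ⟨_, W.mem, rfl⟩)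
    · rintro X g ⟨a, ha, b, hb, rfl⟩
      obtain ⟨x, rfl⟩ := W.coverG X a ha
      obtain ⟨y, rfl⟩ := W.coverG X b hb
      exact ⟨lift x y, by rw [comp_commutator, lift_fst_assoc, lift_snd_assoc]⟩
    · rintro X g ⟨a, ha, b, hb, rfl⟩
      obtain ⟨x, rfl⟩ := W.coverH X a ha
      obtain ⟨y, rfl⟩ := W.coverH X b hb
      exact ⟨lift x y, by rw [comp_commutator, lift_fst_assoc, lift_snd_assoc]⟩

theorem exists_lower : ∀ n, Nonempty (Words f (fun X M _ => lowSet (H := M) X n)
    (fun X M _ => (⊤ : Subgroup (X ⟶ M)).lowerCentralSeries n))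
  | 0 => ⟨⟨G, H, f, 𝟙 G, 𝟙 H, η[G], inferInstance, inferInstance, inferInstance, inferInstance, inferInstance,
      Category.comp_id _, by simp, trivial, fun _ g _ => ⟨g, Category.comp_id g⟩, fun _ g _ => ⟨g, Category.comp_id g⟩⟩⟩
  | n + 1 => by
    obtain ⟨W⟩ := exists_lower n
    haveI := W.flat; haveI := W.lfp; haveI := W.surj; haveI := W.lft; haveI := W.gi
    obtain ⟨h1, h2, h3⟩ := Groth.Agent.MonoQuot.fppf_tensor W.e f
    obtain ⟨h4, h5⟩ := tensor_facts W.P G
    refine ⟨⟨W.P ⊗ G, W.Q ⊗ H, W.e ⊗ₘ f, ⁅fst W.P G ≫ W.wG, snd W.P G⁆,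
      ⁅fst W.Q H ≫ W.wH, snd W.Q H⁆, lift W.ε η[G], h1, h2, h3, h4, h5, ?_, ?_, ?_, ?_, ?_⟩⟩
    · rw [comp_commutator, lift_fst_assoc, lift_snd, W.one, commutatorElement_one_left]
    · rw [commutator_comp, comp_commutator, Category.assoc, W.comm, tensorHom_fst_assoc, tensorHom_snd]
    · show ⁅fst W.P G ≫ W.wG, snd W.P G⁆ ∈ Subgroup.lowerCentralSeries _ (n + 1)
      rw [Subgroup.lowerCentralSeries_succ]
      refine Subgroup.commutator_mem_commutator ?_ trivial
      exact Subgroup.lowerCentralSeries_mono n le_top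
        ((Subgroup.map_lowerCentralSeries (S := ⊤) (preHom _ G) n).le ⟨_, W.mem, rfl⟩)
    · rintro X g ⟨a, ha, b, rfl⟩
      obtain ⟨x, rfl⟩ := W.coverG X a ha
      exact ⟨lift x b, by rw [comp_commutator, lift_fst_assoc, lift_snd]⟩
    · rintro X g ⟨a, ha, b, rfl⟩
      obtain ⟨x, rfl⟩ := W.coverH X a ha
      exact ⟨lift x b, by rw [comp_commutator, lift_fst_assoc, lift_snd]⟩

omit [GrpObj G] [LocallyOfFiniteType G.hom] [GeometricallyIntegral G.hom] in
/-- A map from a geometrically integral scheme into a finite fibre is constant. -/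
theorem eq_one_of_finite {P : Over (Spec (CommRingCat.of k))} [LocallyOfFiniteType P.hom]
    [GeometricallyIntegral P.hom] [GrpObj G] [LocallyOfFiniteType G.hom] [IsFinite f.left] (g : P ⟶ G)
    (ε : 𝟙_ (Over (Spec (CommRingCat.of k))) ⟶ P) (hε : ε ≫ g = 1) (h : g ≫ f = 1) [IsMonHom f] : g = 1 := by
  haveI : IsIntegral P.left := GeometricallyIntegral.isIntegral_of_subsingleton P.hom
  haveI : IsSeparated G.hom := Groth.Agent.GrpField.isSeparated_grp (G := G)
  haveI : IsSeparated H.hom := Groth.Agent.GrpField.isSeparated_grp (G := H)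
  haveI : Subsingleton ↥(𝟙_ (Over (Spec (CommRingCat.of k)))).left :=
    inferInstanceAs (Subsingleton (PrimeSpectrum k))
  haveI : IsClosedImmersion (η[G]).left := by
    haveI : IsClosedImmersion ((η[G]).left ≫ G.hom) := by
      rw [Over.w]; exact inferInstanceAs (IsClosedImmersion (𝟙 _))
    exact IsClosedImmersion.of_comp _ G.hom
  haveI : IsClosedImmersion (η[H]).left := by
    haveI : IsClosedImmersion ((η[H]).left ≫ H.hom) := by
      rw [Over.w]; exact inferInstanceAs (IsClosedImmersion (𝟙 _))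
    exact IsClosedImmersion.of_comp _ H.hom
  let o : ↥(𝟙_ (Over (Spec (CommRingCat.of k)))).left := IsLocalRing.closedPoint k
  have hfac : ∀ x, f.left (g.left x) = (η[H]).left o := fun x => by
    have := congrArg (fun φ : P ⟶ H => φ.left x) h
    simp only at this
    rw [Hom.one_def, Over.comp_left, Over.comp_left, Scheme.Hom.comp_apply, Scheme.Hom.comp_apply] at this
    rwa [Subsingleton.elim ((toUnit P).left x) o] at this
  set F : Set ↥G.left := f.left ⁻¹' {(η[H]).left o} with hF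
  have hyc : IsClosed ({(η[H]).left o} : Set ↥H.left) := by
    have : Set.range (η[H]).left = {(η[H]).left o} := by
      ext y
      exact ⟨fun ⟨z, hz⟩ => by rw [← hz, Subsingleton.elim z o]; rfl, fun hy => ⟨o, hy.symm⟩⟩
    exact this ▸ (η[H]).left.isClosedEmbedding.isClosed_range
  have hFc : IsClosed F := hyc.preimage f.left.continuous
  haveI : Finite F := f.left.finite_preimage_singleton _
  haveI : JacobsonSpace ↥G.left := LocallyOfFiniteType.jacobsonSpace G.hom
  haveI : JacobsonSpace F := .of_isClosedEmbedding hFc.isClosedEmbedding_subtypeVal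
  have hsub : ∀ x y, g.left x = g.left y := fun x y => by
    have := PreconnectedSpace.constant (α := ↥P.left) inferInstance
      (g.left.continuous.subtype_mk (p := (· ∈ F)) hfac) (x := x) (y := y)
    exact congrArg Subtype.val this
  have hr : Set.range g.left ⊆ Set.range (η[G]).left := by
    rintro _ ⟨x, rfl⟩
    refine ⟨o, ?_⟩
    rw [hsub x (ε.left o), ← Scheme.Hom.comp_apply, ← Over.comp_left, hε, Hom.one_def, Over.comp_left,
      Scheme.Hom.comp_apply, Subsingleton.elim ((toUnit (𝟙_ (Over (Spec (CommRingCat.of k))))).left o) o]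
  obtain ⟨l, hl⟩ := AVAmpleLib.exists_lift_of_reduced (η[G]).left g.left hr
  let l' : P ⟶ 𝟙_ (Over (Spec (CommRingCat.of k))) := Over.homMk l (by rw [← Over.w g, ← hl, Category.assoc, Over.w η[G]])
  rw [← Over.OverMorphism.ext (g := g) (show (l' ≫ η[G]).left = g.left from hl), Hom.one_def, toUnit_unique l' (toUnit P)]

variable [IsFinite f.left]
include f

theorem isSolvable_iff : Red.IsSolvableGrp G ↔ Red.IsSolvableGrp H := by
  constructor <;> rintro ⟨n, hn⟩ <;> obtain ⟨W⟩ := exists_derived f n <;>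
    haveI := W.flat <;> haveI := W.lfp <;> haveI := W.surj <;> haveI := W.lft <;> haveI := W.gi <;>
    refine ⟨n, fun X => le_bot_iff.1 ((Groth.Agent.BorelLib.derivedSeries_le_wordSet X n).trans
      ((Subgroup.closure_le _).2 fun g hg => ?_))⟩
  · obtain ⟨x, rfl⟩ := W.coverH X g hg
    haveI := Groth.Agent.MonoQuot.epi_over W.e
    have hw : W.wH = 1 := by
      rw [← cancel_epi W.e, ← W.comm, Subgroup.mem_bot.1 ((hn W.P).le W.mem), MonObj.one_comp, MonObj.comp_one]
    rw [SetLike.mem_coe, Subgroup.mem_bot, hw, MonObj.comp_one]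
  · obtain ⟨x, rfl⟩ := W.coverG X g hg
    have h : W.wG ≫ f = 1 := Subgroup.mem_bot.1 ((hn W.P).le
      (map_derivedSeries_le_derivedSeries (postHom W.P f) n ⟨_, W.mem, rfl⟩))
    rw [SetLike.mem_coe, Subgroup.mem_bot, eq_one_of_finite f W.wG W.ε W.one h, MonObj.comp_one]

theorem lower_eq_bot_iff (n : ℕ) :
    (∀ X, (⊤ : Subgroup (X ⟶ G)).lowerCentralSeries n = ⊥) ↔
      ∀ X, (⊤ : Subgroup (X ⟶ H)).lowerCentralSeries n = ⊥ := by
  obtain ⟨W⟩ := exists_lower f n
  haveI := W.flat; haveI := W.lfp; haveI := W.surj; haveI := W.lft; haveI := W.gi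
  constructor <;> intro hn X <;>
    refine le_bot_iff.1 ((lower_le_lowSet X n).trans ((Subgroup.closure_le _).2 fun g hg => ?_))
  · obtain ⟨x, rfl⟩ := W.coverH X g hg
    haveI := Groth.Agent.MonoQuot.epi_over W.e
    have hw : W.wH = 1 := by
      rw [← cancel_epi W.e, ← W.comm, Subgroup.mem_bot.1 ((hn W.P).le W.mem), MonObj.one_comp, MonObj.comp_one]
    rw [SetLike.mem_coe, Subgroup.mem_bot, hw, MonObj.comp_one]
  · obtain ⟨x, rfl⟩ := W.coverG X g hg
    have h : W.wG ≫ f = 1 := Subgroup.mem_bot.1 ((hn W.P).le (Subgroup.lowerCentralSeries_mono n le_top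
      ((Subgroup.map_lowerCentralSeries (S := ⊤) (postHom W.P f) n).le ⟨_, W.mem, rfl⟩)))
    rw [SetLike.mem_coe, Subgroup.mem_bot, eq_one_of_finite f W.wG W.ε W.one h, MonObj.comp_one]

theorem isNilpotent_iff : AGF.IsNilpotentGrp G ↔ AGF.IsNilpotentGrp H := by
  constructor <;> rintro ⟨n, hn⟩ <;> refine ⟨n, fun X => ?_⟩ <;>
    rw [← Subgroup.lowerCentralSeries_eq_bot_iff_upperCentralSeries_eq_top]
  · exact (lower_eq_bot_iff f n).1 (fun Y => by
      rw [Subgroup.lowerCentralSeries_eq_bot_iff_upperCentralSeries_eq_top]; exact hn Y) X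
  · exact (lower_eq_bot_iff f n).2 (fun Y => by
      rw [Subgroup.lowerCentralSeries_eq_bot_iff_upperCentralSeries_eq_top]; exact hn Y) X

omit f [GrpObj G] [LocallyOfFiniteType G.hom] [GeometricallyIntegral G.hom] in
theorem isCommMonObj_iff_lower {M : Over (Spec (CommRingCat.of k))} [GrpObj M] :
    IsCommMonObj M ↔ ∀ X, (⊤ : Subgroup (X ⟶ M)).lowerCentralSeries 1 = ⊥ := by
  constructor
  · intro h X
    rw [Subgroup.lowerCentralSeries_succ, Subgroup.lowerCentralSeries_zero]
    refine le_bot_iff.1 (Subgroup.commutator_le.2 fun a _ b _ => Subgroup.mem_bot.2 ?_)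
    rw [commutatorElement_eq_one_iff_mul_comm]
    haveI : IsMulCommutative (X ⟶ M) := ⟨⟨fun x y => by
      haveI := h; letI : CommMonoid (X ⟶ M) := CategoryTheory.Hom.commMonoid
      exact mul_comm x y⟩⟩
    exact mul_comm' a b
  · intro h
    have hc : fst M M * snd M M = snd M M * fst M M := by
      rw [← commutatorElement_eq_one_iff_mul_comm, ← Subgroup.mem_bot, ← h (M ⊗ M), Subgroup.lowerCentralSeries_succ]
      exact Subgroup.commutator_mem_commutator trivial trivial
    exact ⟨by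
      rw [Hom.mul_def, Hom.mul_def, lift_fst_snd, Category.id_comp] at hc
      conv_rhs => rw [hc]
      congr 1⟩

theorem isComm_iff : IsCommMonObj G ↔ IsCommMonObj H := by
  rw [isCommMonObj_iff_lower, isCommMonObj_iff_lower]
  exact lower_eq_bot_iff f 1

end IsogWordLib

end
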