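import Groth.Agent.IsogWordLib.DimSub
import Groth.Agent.IsogWordLib.Words
import Groth.Agent.IsogWordLib.Unip
import Groth.Agent.AntiAffLib.AffineQuot
import Groth.Prelude

/-!
# Properties passing along isogenies of smooth connected groups
-/

set_option autoImplicit false
set_option linter.style.haveILetI false
set_option backward.isDefEq.respectTransparency false
set_option maxHeartbeats 1000000

universe u

open CategoryTheory CategoryTheory.Limits MonoidalCategory CartesianMonoidalCategory AlgebraicGeometry
open scoped MonObj

noncomputable section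

attribute [-instance] CategoryTheory.Hom.commGroup

namespace IsogWordLib

open Groth.Agent

variable {K : Type u} [Field K] [IsAlgClosed K] {U U' : Over (Spec (CommRingCat.of K))} [GrpObj U] [GrpObj U']
  [Smooth U.hom] [Smooth U'.hom] [ConnectedSpace U.left] [ConnectedSpace U'.left] {p : U ⟶ U'}

omit [IsAlgClosed K] [ConnectedSpace U'.left] [Smooth U.hom] [Smooth U'.hom] [ConnectedSpace U.left] in
theorem Isog.krullDim (h : Isog p) : topologicalKrullDim U.left = topologicalKrullDim U'.left := by
  haveI := h.fin; haveI := h.surj
  exact AbSchLib.topologicalKrullDim_eq_of_finite_surjective p.left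

omit [ConnectedSpace U'.left] in
theorem Isog.isSolvable_iff [QuasiCompact U.hom] (h : Isog p) : Red.IsSolvableGrp U ↔ Red.IsSolvableGrp U' := by
  haveI := h.hom; haveI := h.fin; haveI := h.surj
  haveI := AlbLib.geometricallyIntegral_grp U
  haveI : IsReduced U'.left := AlgSpLib.isReduced_of_smooth U'.hom
  haveI : Flat p.left := AntiAffLib.flat_of_surjective p
  haveI : IsLocallyNoetherian U'.left := LocallyOfFiniteType.isLocallyNoetherian U'.hom
  exact IsogWordLib.isSolvable_iff p

omit [ConnectedSpace U'.left] in
theorem Isog.isAffine_iff [QuasiCompact U.hom] [QuasiCompact U'.hom] (h : Isog p) :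
    IsAffine U.left ↔ IsAffine U'.left := by
  haveI := h.hom; haveI := h.fin; haveI := h.surj
  haveI : IsReduced U'.left := AlgSpLib.isReduced_of_smooth U'.hom
  haveI : Flat p.left := AntiAffLib.flat_of_surjective p
  exact ⟨fun _ => AntiAffLib.isAffine_of_surjective_hom p, fun _ => isAffine_of_isAffineHom p.left⟩

theorem Isog.hasNoSubtorus_iff [IsAffine U.left] [IsAffine U'.left] (h : Isog p) :
    Red.HasNoSubtorus K U ↔ Red.HasNoSubtorus K U' := by
  haveI := h.hom; haveI := h.fin; haveI := h.surj
  exact IsogWordLib.hasNoSubtorus_iff U U' p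

end IsogWordLib

end
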